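import Cfsg.Agent.OddHalf.D8.JTwo.CaseM
import Cfsg.Agent.KFacts.J2.SheetX
import Cfsg.Agent.KFacts.QMinusNormal

/-!
# The sheet of case (M) of `J₂` (helper206)
-/

set_option autoImplicit false

namespace Cfsg.Agent.OddHalf.D8.JTwo.SheetM

open Subgroup Cfsg.Agent.J2Type.Model Cfsg.Agent.J2Type.CStruct
open Cfsg.Agent.J3Type.OneClass Cfsg.Agent.KFacts Cfsg.Agent.KFacts.J2.Basic
open Cfsg.Agent.OddHalf Cfsg.Agent.OddHalf.D8.JTwo.Sheet

open scoped commutatorElement

/-- the sheet of case (M) for a centraliser `2^{1+4}_- : A₅` -/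
theorem sheetM_of {K : Type*} [Group K] [Finite K] {z : K} {Q : Subgroup (centralizer ({z} : Set K))}
    {v : Fin 5 → centralizer ({z} : Set K)} {ρ : centralizer ({z} : Set K) →* SP}
    (hc : Nat.card (centralizer ({z} : Set K)) = 1920)
    (M : IsModel Q (zc z) v ρ) (hout : ∃ n, (MulAut.conj : K →* MulAut K).range.index = 2 ^ n)
    (h : SheetX z (centralizer ({z} : Set K)) (Q.map (centralizer ({z} : Set K)).subtype)) :
    CaseM.SheetM (centralizer ({z} : Set K)) (Q.map (centralizer ({z} : Set K)).subtype) where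
  big := by
    apply D8.JTwo.CaseM.big_of_quasisimple h
    intro N hN hQ hn
    rcases QMinus.normal_cases' M N hN hn with h1 | h1
    · left
      rw [commutator_le]
      intro x hx y hy
      have h4 : x * (y * x⁻¹ * y⁻¹) ∈ N := N.mul_mem hx (hn y hy _ (N.inv_mem hx))
      apply h1
      rw [commutatorElement_def]
      simpa only [mul_assoc] using h4
    · right
      rwa [sup_eq_left.2 hQ] at h1
  idx := by
    refine ⟨2, ?_, ?_⟩
    · have h1 : Nat.card Q = 32 := by
        have := QMinus.card_mul M
        omega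
      rw [Nat.card_congr (Q.equivMapOfInjective _ (centralizer ({z} : Set K)).subtype_injective).toEquiv.symm, h1]
      norm_num
    · intro H hH hle
      have h0 : H.relIndex (centralizer ({z} : Set K)) ≠ 0 := by
        rw [relIndex]; exact FiniteIndex.index_ne_zero
      have h1 := QMinus.index_le_two M (H.subgroupOf (centralizer ({z} : Set K))) (by
        change H.relIndex (centralizer ({z} : Set K)) = 1 ∨ H.relIndex (centralizer ({z} : Set K)) = 2
        omega)
      apply le_antisymm hH
      intro x hx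
      have h2 : (⟨x, hx⟩ : centralizer ({z} : Set K)) ∈ H.subgroupOf (centralizer ({z} : Set K)) := by
        rw [h1]; exact mem_top _
      exact h2
  odd := D8.JTwo.CaseM.odd_of_index h hout ⟨0, by rw [pow_zero, relIndex_self]⟩

/-- the sheet of case (M) of `J₂` -/
theorem sheetM {X : Type*} [Group X] [Finite X] {t u : X} {Q : Subgroup (centralizer ({t} : Set X))}
    {v : Fin 5 → centralizer ({t} : Set X)} {ρ : centralizer ({t} : Set X) →* SP} (D : Dat t u Q v ρ) :
    CaseM.SheetM (centralizer ({t} : Set X)) (Q.map (centralizer ({t} : Set X)).subtype) := by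
  refine sheetM_of D.cardC D.M ?_ (J2.SheetX.sheetX D)
  rcases J2.SheetX.index_le D with hi | hi
  · exact ⟨0, by rw [hi, pow_zero]⟩
  · exact ⟨1, by rw [hi, pow_one]⟩

end Cfsg.Agent.OddHalf.D8.JTwo.SheetM
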