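import Cfsg.Agent.OddHalf.D8.JTwo.Row
import Cfsg.Agent.OddHalf.D8.JTwo.SheetM
import Cfsg.Agent.OddHalf.CaseM.EndX

/-!
# ODD half, D8, row `J₂`: the glue (helper206)

`row`: the row `K = J₂` from S1762 and the absence of components of `C_G(z)` (case (M), `CaseM.NoCompX` of helper271).
-/

set_option autoImplicit false

namespace Cfsg.Agent.OddHalf.D8.JTwo.Final

open Subgroup Cfsg Cfsg.Agent.OddHalf

universe u

/-- **the row `J₂`** -/
theorem row (h1762 : Large.H1762.{u})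
    (hM : CaseM.NoCompX.{u} (fun _ _ _ P R => CaseM.SheetM P R)) :
    D8.Rows.Row.{u} (fun K _ => Spor.IsoJ2 K) :=
  D8.JTwo.Row.row_of h1762 (Y := fun _ _ _ P R => CaseM.SheetM P R) hM
    (fun _ _ _ _ _ _ _ _ D => D8.JTwo.SheetM.sheetM D)

/-- the row `J₂` from the statements of the other nodes -/
theorem row_of_nodes (h1762 : Large.H1762.{u})
    (hSch : Cfsg.Agent.Schreier.Cases.SchFor.{u} @IsKnownSimple')
    (hGW : SylowSp4.Hyps.GW.{u}) (hI : Iface.Intr.{u}) (hLO : CaseM.LOAll.{u}) (hM : D9.Cut.Mult.{u})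
    (R : CaseM.SignRows.{u}) :
    D8.Rows.Row.{u} (fun K _ => Spor.IsoJ2 K) :=
  row h1762 (CaseM.noCompX_of hSch hGW hI hLO hM R)

end Cfsg.Agent.OddHalf.D8.JTwo.Final
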