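import Cfsg.Agent.OddHalf.D8.JTwo.Small
import Cfsg.Agent.J2.ExtQuot
import Cfsg.Agent.SylowU5.Iso
import Cfsg.Agent.S0364
import Cfsg.Agent.SignalizersComponents.CharP

/-!
# ODD half, D8, row `J₂`: the case `t ∈ O₂(C(z))`, part 2 (helper826)

`not_large`: `O₂(C(z))` is not extraspecial of order `2 ^ 7`, by S1762 and Lagrange (`25` divides `|J₂|`).
-/

set_option autoImplicit false

namespace Cfsg.Agent.OddHalf.D8.JTwo.Large

open Subgroup Cfsg Cfsg.Agent.OddHalf.D8.MainE

universe u

/-- `25` does not divide the order of `PSL(5, 2)` -/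
theorem psl5 {F : Type*} [Field F] [Fintype F] (hF : Fintype.card F = 2) :
    ¬ 25 ∣ Nat.card (Matrix.ProjectiveSpecialLinearGroup (Fin 5) F) := by
  classical
  intro h
  have h1 : Nat.card (Matrix.ProjectiveSpecialLinearGroup (Fin 5) F) ∣
      Nat.card (Matrix.SpecialLinearGroup (Fin 5) F) := by
    exact Subgroup.card_quotient_dvd_card _
  have h2 : Nat.card (Matrix.SpecialLinearGroup (Fin 5) F) ∣ Nat.card (GL (Fin 5) F) := by
    have hinj : Function.Injective (Matrix.SpecialLinearGroup.toGL : Matrix.SpecialLinearGroup (Fin 5) F →* GL (Fin 5) F) :=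
      Matrix.SpecialLinearGroup.toGL_injective
    exact Subgroup.card_dvd_of_injective _ hinj
  have h3 := (h.trans h1).trans h2
  rw [Matrix.card_GL_field, hF] at h3
  simp only [Fin.prod_univ_succ, Fin.prod_univ_zero] at h3
  norm_num at h3

/-- S1762 (without the hypothesis on symplectic type) -/
def H1762 : Prop :=
  ∀ (G : Type u) [Group G] [Finite G] [IsSimpleGroup G], ¬ IsMulCommutative G → ∀ z : G, orderOf z = 2 →
    IsExtraspecial 2 ↥(generalizedFittingSubgroup ↥(centralizer ({z} : Set G))) →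
    Nat.card ↥(generalizedFittingSubgroup ↥(centralizer ({z} : Set G))) = 2 ^ 7 →
    (∃ (F : Type) (_ : Field F) (_ : Fintype F), Fintype.card F = 2 ∧ Nonempty (G ≃* Matrix.ProjectiveSpecialLinearGroup (Fin 5) F)) ∨
      (∃ (F : Type) (_ : Field F) (_ : Fintype F), Fintype.card F = 4 ∧ Nonempty (G ≃* Cfsg.PSU 5 F 2)) ∨
      Cfsg.Spor.IsoM24 G ∨ Cfsg.Spor.IsoHe G ∨ Cfsg.Spor.IsoSuz G

/-- **S1762 does not apply** -/
theorem not_large (h1762 : H1762.{u}) {G : Type u} [Group G] (C : Iface.Ctx G) {z : G} (hz : orderOf z = 2)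
    (hself : centralizer (pCore 2 ↥(centralizer ({z} : Set G)) : Set ↥(centralizer ({z} : Set G))) ≤
      pCore 2 ↥(centralizer ({z} : Set G)))
    (hex : IsExtraspecial 2 ↥((pCore 2 ↥(centralizer ({z} : Set G))).map (centralizer ({z} : Set G)).subtype))
    (hcard : Nat.card ↥((pCore 2 ↥(centralizer ({z} : Set G))).map (centralizer ({z} : Set G)).subtype) = 2 ^ 7)
    (h25 : 25 ∣ Nat.card G) : False := by
  have hfin := C.fin
  have hsimp := C.simple
  have : Fact (Nat.Prime 2) := ⟨Nat.prime_two⟩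
  have hF : generalizedFittingSubgroup ↥(centralizer ({z} : Set G)) = pCore 2 ↥(centralizer ({z} : Set G)) :=
    Cfsg.Agent.SignalizersComponents.CharP.genFitting_eq_pCore_iff.2 hself
  have e : ↥((pCore 2 ↥(centralizer ({z} : Set G))).map (centralizer ({z} : Set G)).subtype) ≃*
      ↥(pCore 2 ↥(centralizer ({z} : Set G))) :=
    ((pCore 2 ↥(centralizer ({z} : Set G))).equivMapOfInjective _ (subtype_injective _)).symm
  have hE : IsExtraspecial 2 ↥(generalizedFittingSubgroup ↥(centralizer ({z} : Set G))) := by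
    rw [hF]
    exact Cfsg.Agent.J2.ExtQuot.isExtraspecial_of_equiv e hex
  have hc : Nat.card ↥(generalizedFittingSubgroup ↥(centralizer ({z} : Set G))) = 2 ^ 7 := by
    rw [hF, ← hcard]
    exact (Nat.card_congr e.toEquiv).symm
  rcases h1762 G C.na z hz hE hc with
    ⟨F, _, _, hF2, ⟨f⟩⟩ | ⟨F, _, _, hF4, ⟨f⟩⟩ | ⟨⟨f⟩⟩ | h | h
  · rw [Nat.card_congr f.toEquiv] at h25
    exact psl5 hF2 h25
  · rw [Nat.card_congr f.toEquiv, Cfsg.Agent.SylowU5.Iso.card_PSU hF4] at h25
    norm_num at h25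
  · have h1 : Nat.card G = 244823040 := by
      rw [Nat.card_congr f.toEquiv]
      exact Cfsg.Agent.S0364.result
    rw [h1] at h25
    norm_num at h25
  · exact C.nc (by unfold Iface.Concl Small.Excl.Concl; tauto)
  · exact C.nc (by unfold Iface.Concl Small.Excl.Concl; tauto)

end Cfsg.Agent.OddHalf.D8.JTwo.Large
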