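import Cfsg.Agent.OddHalf.D8.JTwo.Sheet
import Cfsg.Agent.OddHalf.D8.MainE

/-!
# ODD half, D8, type (E) without the `y`-trick: from the sheet of `K` to `G` (helper915, helper826)

Copies of `GlueE.EmbE.mem_of_trivial` and `MainE.data` for `SheetX`.
-/

set_option autoImplicit false

namespace Cfsg.Agent.OddHalf.D8.JTwo.Glue

open Subgroup Cfsg Cfsg.Agent.OddHalf.Front.FE Cfsg.Agent.OddHalf.D8.Sheet Cfsg.Agent.OddHalf.D8.GlueE
  Cfsg.Agent.OddHalf.D8.Front Cfsg.Agent.OddHalf.D8.MainE Cfsg.Agent.OddHalf.D8.JTwo.Sheet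

universe u

variable {G : Type u} [Group G]

/-- the data -/
structure EmbX (K : Subgroup G) (t q : G) (z : K) (P R : Subgroup K) : Prop where
  st : Start K t q
  sh : SheetX z P R

namespace EmbX

variable {K : Subgroup G} {t q : G} {z : K} {P R : Subgroup K}

theorem emb [Finite G] (h : EmbX K t q z P R) : Emb K t q z P := ⟨h.st, h.sh.basic⟩

/-- 2-elements of `N` trivial on `P/R` -/
theorem mem_of_trivial [Finite G] (h : EmbX K t q z P R) {x : G} (hx2 : IsPGroup 2 (zpowers x))
    (hxt : x * t = t * x) (hxz : x * z = z * x)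
    (hx : ∀ p ∈ P.map K.subtype, p⁻¹ * (x * p * x⁻¹) ∈ R.map K.subtype) :
    ∃ r ∈ R.map K.subtype, r⁻¹ * x ∈ zpowers q := by
  have hE := h.emb
  obtain ⟨r, hr, e⟩ := h.sh.aut (K.normalizerMonoidHom ⟨x, hE.nor hxt⟩)
    (isPGroup_nmh (hE.nor hxt) hx2) (hE.aut_z hxt hxz) (by
    intro p hp
    have h1 := hx p ⟨p, hp, rfl⟩
    obtain ⟨h2, h3⟩ := Emb.mem_map.1 h1
    convert h3 using 1
    apply Subtype.ext
    rw [Subgroup.coe_mul, nmh_apply]
    rfl)
  refine ⟨r, ⟨r, hr, rfl⟩, ?_⟩
  apply h.st.cK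
  · have h4 := h.st.Kt (r : G)⁻¹ (K.inv_mem r.2)
    calc (r : G)⁻¹ * x * t = (r : G)⁻¹ * (x * t) := by group
      _ = ((r : G)⁻¹ * t) * x := by rw [hxt]; group
      _ = t * ((r : G)⁻¹ * x) := by rw [h4]; group
  · exact exists_of_conj (hE.nor hxt) e

end EmbX

/-- the data of type (E) in `G` -/
theorem data (C : Iface.Ctx G) {K : Subgroup G} {t q : G} {z : K} {P R : Subgroup K}
    (o : Out K t q z P) (sh : SheetX z P R)
    (hM : ∀ M : Subgroup ↥(centralizer ({(z : G)} : Set G)), ¬ IsComponent M) :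
    TypeE.Data t (z : G) (centralizer ({t} : Set G) ⊓ centralizer ({(z : G)} : Set G))
      (P.map K.subtype) (R.map K.subtype)
      ((pCore 2 ↥(centralizer ({(z : G)} : Set G))).map (centralizer ({(z : G)} : Set G)).subtype) := by
  have hfin := C.fin
  have h := o.emb
  have hE : EmbX K t q z P R := ⟨h.st, sh⟩
  have hbot := core_eq_bot C (orderOf_z h)
  have hlay : layer ↥(centralizer ({(z : G)} : Set G)) = ⊥ := by
    unfold layer
    rw [sSup_eq_bot]
    intro M hMc
    exact absurd hMc (hM M)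
  have hself := (Cfsg.Agent.SignalizersComponents.PConstrained.centralizer_pCore_le_iff_layer_eq_bot 2
    hbot).2 hlay
  have hPz : ∀ p ∈ P.map K.subtype, p * (z : G) = z * p := by
    rintro _ ⟨p, hp, rfl⟩
    exact congrArg Subtype.val (sh.cen p hp)
  have hPt : ∀ p ∈ P.map K.subtype, p * t = t * p := by
    rintro _ ⟨p, -, rfl⟩
    exact h.st.Kt p p.2
  -- subgroups of `P`
  have hsub : ∀ Y : Subgroup G, Y ≤ P.map K.subtype →
      (∀ n ∈ centralizer ({t} : Set G) ⊓ centralizer ({(z : G)} : Set G), ∀ y ∈ Y, n * y * n⁻¹ ∈ Y) →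
      Y.subgroupOf K ≤ P ∧ (∀ x ∈ P, ∀ b ∈ Y.subgroupOf K, x * b * x⁻¹ ∈ Y.subgroupOf K) ∧
      (Y.subgroupOf K).map K.subtype = Y := by
    intro Y hY hn
    refine ⟨?_, ?_, ?_⟩
    · intro y hy
      obtain ⟨_, h2⟩ := Emb.mem_map.1 (hY (mem_subgroupOf.1 hy))
      exact h2
    · intro x hx b hb
      rw [mem_subgroupOf] at hb ⊢
      exact hn x ⟨mem_centralizer_singleton_iff.2 (h.st.Kt x x.2),
        mem_centralizer_singleton_iff.2 (congrArg Subtype.val (sh.cen x hx))⟩ b hb
    · rw [subgroupOf_map_subtype, inf_eq_left]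
      exact hY.trans (map_subtype_le _)
  exact
    { tt := h.st.tt
      zz := h.zz
      z1 := h.z1
      comm := h.comm
      pF := (Cfsg.Agent.Lib.Cores.pCore_isPGroup 2).map _
      leF := by
        rintro _ ⟨x, -, rfl⟩
        exact mem_centralizer_singleton_iff.1 x.2
      norF := by
        rintro g hg _ ⟨x, hx, rfl⟩
        exact ⟨⟨g, mem_centralizer_singleton_iff.2 hg⟩ * x * ⟨g, mem_centralizer_singleton_iff.2 hg⟩⁻¹,
          (Cfsg.Agent.Lib.Cores.pCore_normal 2).conj_mem x hx _, rfl⟩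
      selfF := by
        intro g hg hc
        refine ⟨⟨g, mem_centralizer_singleton_iff.2 hg⟩, hself ?_, rfl⟩
        rw [mem_centralizer_iff]
        intro x hx
        exact Subtype.ext (hc x ⟨x, hx, rfl⟩).symm
      hN := by
        intro n hn
        refine ⟨mem_centralizer_singleton_iff.1 hn.2, Or.inl ?_⟩
        rw [mem_centralizer_singleton_iff.1 hn.1]; group
      cN := fun n h1 h2 => ⟨mem_centralizer_singleton_iff.2 h1, mem_centralizer_singleton_iff.2 h2⟩
      Pt := hPt
      Pz := hPz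
      norP := fun n hn p hp => h.conj_P (mem_centralizer_singleton_iff.1 hn.1)
        (mem_centralizer_singleton_iff.1 hn.2) hp
      perf := by rw [← map_commutator, sh.perf]
      zP := ⟨z, sh.zP, rfl⟩
      RP := map_mono sh.RP
      core := by
        intro Y hY hY2 hn
        obtain ⟨h1, h2, h3⟩ := hsub Y hY hn
        rw [← h3]
        refine map_mono (sh.Rmax _ h1 ?_ h2)
        exact hY2.comap_of_injective K.subtype K.subtype_injective
      irr := by
        intro Y hY hn
        obtain ⟨h1, h2, h3⟩ := hsub Y (hY.trans (map_mono sh.RP)) hn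
        have h4 : Y.subgroupOf K ≤ R := by
          intro y hy
          obtain ⟨_, h5⟩ := Emb.mem_map.1 (hY (mem_subgroupOf.1 hy))
          exact h5
        rcases sh.Rmin _ h4 h2 with h5 | h5
        · left
          intro y hy
          rw [← h3] at hy
          obtain ⟨b, hb, rfl⟩ := hy
          rcases h5 b hb with e | e
          · exact Or.inl (congrArg Subtype.val e)
          · exact Or.inr (congrArg Subtype.val e)
        · right
          rw [← h3, h5]
      nab := by
        obtain ⟨a, ha, b, hb, hab⟩ := sh.Rna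
        exact ⟨a, ⟨a, ha, rfl⟩, b, ⟨b, hb, rfl⟩, fun e => hab (Subtype.ext e)⟩
      out := by
        intro n hn2 hnt hnz hc
        obtain ⟨r, hr, hrn⟩ := hE.mem_of_trivial hn2 hnt hnz (by
          intro p hp
          have h1 := hc p hp
          have h2 : p⁻¹ * (n * p * n⁻¹) = p⁻¹ * (n * p * n⁻¹ * p⁻¹) * p⁻¹⁻¹ := by group
          rw [h2]
          obtain ⟨p', hp', rfl⟩ := hp
          obtain ⟨r', hr', e⟩ := h1
          refine ⟨p'⁻¹ * r' * p'⁻¹⁻¹, sh.Rn _ (P.inv_mem hp') r' hr', ?_⟩
          have e' : (r' : G) = n * (p' : G) * n⁻¹ * (p' : G)⁻¹ := e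
          show (p' : G)⁻¹ * r' * (p' : G)⁻¹⁻¹ = _
          rw [e']
          rfl)
        rcases o.Q2 _ hrn with e | e
        · left
          have : n = r := (inv_mul_eq_one.1 e).symm
          rw [this]; exact hr
        · right
          have h1 : n = r * t := by rw [← e]; group
          have h2 : r * t = t * r := by
            obtain ⟨r', -, rfl⟩ := hr
            exact h.st.Kt r' r'.2
          have h3 : t * n = r := by rw [h1, h2, ← mul_assoc, h.st.tt, one_mul]
          rw [h3]; exact hr }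

end Cfsg.Agent.OddHalf.D8.JTwo.Glue
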