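import Cfsg.Agent.OddHalf.D8.JTwo.Large
import Cfsg.Agent.LargeExtra.AsmSeven
import Cfsg.Agent.S1716
import Cfsg.Agent.S1719

/-!
# ODD half, D8, row `J₂`: the hypothesis `H1762` (helper826)
-/

set_option autoImplicit false

namespace Cfsg.Agent.OddHalf.D8.JTwo.Large7

universe u

/-- S1762 without the hypothesis on symplectic type -/
theorem h1762 : Large.H1762.{u} := by
  intro G _ _ _ hG z hz hE hcard
  exact Cfsg.Agent.LargeExtra.AsmSeven.final_of hG z hz hE hcard
    (fun s hs e hn => Cfsg.Agent.S1716.result s hs z hz e hn)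
    (fun Q _ hF hQ hc e hn => Cfsg.Agent.S1719.result z hz Q hF hQ hc e hn)

end Cfsg.Agent.OddHalf.D8.JTwo.Large7
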