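import Cfsg.Agent.OddHalf.D8.JTwo.Large
import Cfsg.Agent.OddHalf.D8.JTwo.Glue
import Cfsg.Agent.KFacts.J2.SheetX
import Cfsg.Agent.OddHalf.D8.Rows

/-!
# ODD half, D8, row `J₂` (helper826)

`row_of`: the row `K = J₂` follows from the absence of components of `C_G(z)` (`NoCompX`) and S1762.
-/

set_option autoImplicit false

namespace Cfsg.Agent.OddHalf.D8.JTwo.Row

open Subgroup Cfsg Cfsg.Agent.OddHalf.Front.FE Cfsg.Agent.OddHalf.D8.Sheet Cfsg.Agent.OddHalf.D8.GlueE
  Cfsg.Agent.OddHalf.D8.Front Cfsg.Agent.OddHalf.D8.MainE Cfsg.Agent.OddHalf.D8.JTwo.Sheet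
  Cfsg.Agent.KFacts.J2.Basic Cfsg.Agent.OddHalf.D8.JTwo.Small Cfsg.Agent.J2Type.Model

universe u

/-- Case (M): `C_G(z)` has no component, if the sheet satisfies `Y`. -/
def NoCompX (Y : (K : Type u) → [Group K] → K → Subgroup K → Subgroup K → Prop) : Prop :=
  ∀ (G : Type u) [Group G], Iface.Ctx G → ∀ (K : Subgroup G) (t q : G) (z : K) (P R : Subgroup K),
    Out K t q z P → SheetX z P R → Y ↥K z P R →
    ∀ M : Subgroup ↥(centralizer ({(z : G)} : Set G)), ¬ IsComponent M

/-- `J₂` has no central 2-elements -/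
theorem center_eq_bot {K : Type*} [Group K] [Finite K] {z u : K} {Q : Subgroup (centralizer ({z} : Set K))}
    {v : Fin 5 → centralizer ({z} : Set K)} {ρ : centralizer ({z} : Set K) →* SP}
    (D : Dat z u Q v ρ) (h2 : IsPGroup 2 ↥(center K)) : center K = ⊥ := by
  have sh := Cfsg.Agent.KFacts.J2.SheetX.sheetX D
  rw [eq_bot_iff]
  intro y hy
  rw [mem_bot]
  obtain ⟨S, -, -, hcS⟩ := sh.syl
  have h3 : (center K : Subgroup K) ≤ S := by
    have h4 : IsPGroup 2 ((center K ⊔ S : Subgroup K)) := h2.to_sup_of_normal_left S.isPGroup'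
    have h5 := S.is_maximal' h4 le_sup_right
    exact (le_sup_left : center K ≤ center K ⊔ S).trans h5.le
  rcases hcS y (h3 hy) (fun x _ => mem_center_iff.1 hy x) with e | e
  · exact e
  · exfalso
    have h4 : centralizer ({z} : Set K) = ⊤ := by
      rw [eq_top_iff]
      intro k _
      rw [mem_centralizer_singleton_iff, ← e]
      exact mem_center_iff.1 hy k
    have h5 := D.cardC
    rw [h4, Subgroup.card_top, D.card] at h5
    norm_num at h5

/-- **`K = J₂` is impossible** -/
theorem false_of_out (h1762 : Large.H1762.{u}) {G : Type u} [Group G] (C : Iface.Ctx G) {K : Subgroup G}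
    {t q : G} {z v' : K} {Q : Subgroup (centralizer ({z} : Set K))}
    {v : Fin 5 → centralizer ({z} : Set K)} {ρ : centralizer ({z} : Set K) →* SP} [Finite K]
    (D : Dat z v' Q v ρ) (o : Out K t q z (centralizer ({z} : Set K)))
    (hM : ∀ M : Subgroup ↥(centralizer ({(z : G)} : Set G)), ¬ IsComponent M) : False := by
  have hfin := C.fin
  have sh := Cfsg.Agent.KFacts.J2.SheetX.sheetX D
  have Dd := Glue.data C o sh hM
  have hlam : ∀ lam : centralizer ({(z : G)} : Set G) →* ℤˣ,
      lam ⟨t, mem_centralizer_singleton_iff.2 Dd.comm⟩ = 1 := by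
    intro lam
    have h1 : commutator (centralizer ({(z : G)} : Set G)) ≤ lam.ker := Abelianization.commutator_subset_ker lam
    exact h1 o.com
  by_cases htF : t ∈ (pCore 2 ↥(centralizer ({(z : G)} : Set G))).map (centralizer ({(z : G)} : Set G)).subtype
  · have X := xhyp o sh Dd htF
    by_cases hnor : ∀ g : G, g * z = z * g → g * t * g⁻¹ = t ∨ g * t * g⁻¹ = t * z
    · exact notMem D o X hnor
    · push Not at hnor
      obtain ⟨hex, -, hcard⟩ := X.main hlam hnor
      have h32 : Nat.card ↥((Q.map (centralizer ({z} : Set K)).subtype).map K.subtype) = 32 := by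
        rw [Subgroup.card_map_of_injective K.subtype_injective,
          Subgroup.card_map_of_injective (subtype_injective _), D.cardQ]
      rw [h32] at hcard
      have hbot := core_eq_bot C (orderOf_z o.emb)
      have hlay : layer ↥(centralizer ({(z : G)} : Set G)) = ⊥ := by
        unfold layer
        rw [sSup_eq_bot]
        intro M hMc
        exact absurd hMc (hM M)
      have hself := (Cfsg.Agent.SignalizersComponents.PConstrained.centralizer_pCore_le_iff_layer_eq_bot 2
        hbot).2 hlay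
      refine Large.not_large h1762 C (orderOf_z o.emb) hself hex (by rw [hcard]; norm_num) ?_
      have h1 : Nat.card K ∣ Nat.card G := card_subgroup_dvd_card K
      rw [D.card] at h1
      exact (by norm_num : 25 ∣ 604800).trans h1
  · obtain ⟨lam, hl⟩ := Dd.exists_lam htF
    rw [hlam lam] at hl
    exact (by decide : (1 : ℤˣ) ≠ -1) hl

/-- **the row `J₂`** -/
theorem row_of (h1762 : Large.H1762.{u})
    {Y : (K : Type u) → [Group K] → K → Subgroup K → Subgroup K → Prop} (hM : NoCompX.{u} Y)
    (hY : ∀ (K : Type u) [Group K] [Finite K] (z v' : K) (Q : Subgroup (centralizer ({z} : Set K)))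
      (v : Fin 5 → centralizer ({z} : Set K)) (ρ : centralizer ({z} : Set K) →* SP), Dat z v' Q v ρ →
      Y K z (centralizer ({z} : Set K)) (Q.map (centralizer ({z} : Set K)).subtype)) :
    Rows.Row.{u} (fun K _ => Spor.IsoJ2 K) := by
  intro G _ C K S hcyc hK
  have hfin := C.fin
  obtain ⟨z, v', Q, v, ρ, D⟩ := Cfsg.Agent.KFacts.J2.Facts.exists_dat_of hK
  have sh := Cfsg.Agent.KFacts.J2.SheetX.sheetX D
  obtain ⟨t, q, st⟩ := exists_start C S hcyc (center_eq_bot D S.z2)
  have o : Out K t q z (centralizer ({z} : Set K)) := out_of_emb C ⟨st, sh.basic⟩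
  exact false_of_out h1762 C D o (hM G C K t q z _ _ o sh (hY ↥K z v' Q v ρ D))

end Cfsg.Agent.OddHalf.D8.JTwo.Row
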