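import Cfsg.Agent.OddHalf.D8.JTwo.Glue
import Cfsg.Agent.OddHalf.D8.CaseX
import Cfsg.Agent.KFacts.J2.SheetX

/-!
# ODD half, D8, row `J₂`: the case `t ∈ O₂(C(z))`, part 1 (helper826)

`notMem`: if `⟨t, z⟩` is normal in `C_G(z)`, then `t` is not in the commutator subgroup of `C_G(z)`.
-/

set_option autoImplicit false

namespace Cfsg.Agent.OddHalf.D8.JTwo.Small

open Subgroup Cfsg Cfsg.Agent.OddHalf.Front.FE Cfsg.Agent.OddHalf.D8.Sheet Cfsg.Agent.OddHalf.D8.GlueE
  Cfsg.Agent.OddHalf.D8.Front Cfsg.Agent.OddHalf.D8.MainE Cfsg.Agent.OddHalf.D8.JTwo.Sheet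
  Cfsg.Agent.OddHalf.D8.JTwo.Glue Cfsg.Agent.J2Type.Model Cfsg.Agent.J2Type.SPFacts Cfsg.Agent.J2Type.CStruct
  Cfsg.Agent.J3Type.OneClass Cfsg.Agent.J2Type.Base Cfsg.Agent.KFacts.J2.Basic Cfsg.Agent.KFacts.J2.Facts
  Cfsg.Agent.KFacts.J2.SheetX

universe u

variable {G : Type u} [Group G]

/-- `α(R) ≤ R` for automorphisms fixing `z` -/
theorem map_R {K : Type*} [Group K] {z : K} {P R : Subgroup K} (h : SheetX z P R) (α : MulAut K) (hα : α z = z)
    {x : K} (hx : x ∈ R) : α x ∈ R := by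
  have hP : ∀ x ∈ P, α x ∈ P := fun x hx => map_P h.perf h.cen h.der α hα hx
  have hα' : α⁻¹ z = z := by
    calc α⁻¹ z = α⁻¹ (α z) := by rw [hα]
      _ = z := MulAut.inv_apply_self _ _ _
  have hP' : ∀ x ∈ P, α⁻¹ x ∈ P := fun x hx => map_P h.perf h.cen h.der α⁻¹ hα' hx
  have h1 : R.map α.toMonoidHom ≤ R := by
    apply h.Rmax
    · rintro _ ⟨r, hr, rfl⟩
      exact hP r (h.RP hr)
    · exact h.R2.map _
    · rintro x hx _ ⟨r, hr, rfl⟩
      refine ⟨α⁻¹ x * r * (α⁻¹ x)⁻¹, h.Rn _ (hP' x hx) r hr, ?_⟩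
      change α (α⁻¹ x * r * (α⁻¹ x)⁻¹) = x * α r * x⁻¹
      rw [map_mul, map_mul, map_inv, MulAut.apply_inv_self]
  exact h1 ⟨x, hx, rfl⟩

/-- the `XHyp` of type (E) -/
theorem xhyp {K : Subgroup G} {t q : G} {z : K} {P R : Subgroup K} {F : Subgroup G} (o : Out K t q z P)
    (sh : SheetX z P R)
    (D : TypeE.Data t (z : G) (centralizer ({t} : Set G) ⊓ centralizer ({(z : G)} : Set G))
      (P.map K.subtype) (R.map K.subtype) F) (htF : t ∈ F) :
    CaseX.XHyp t (z : G) (P.map K.subtype) (R.map K.subtype) F := by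
  have hmem : ∀ {n : G}, n ∈ centralizer ({t} : Set G) ⊓ centralizer ({(z : G)} : Set G) →
      n * t = t * n ∧ n * z = z * n := fun h =>
    ⟨mem_centralizer_singleton_iff.1 h.1, mem_centralizer_singleton_iff.1 h.2⟩
  have hN : ∀ n, n * t = t * n → n * z = z * n → n ∈ centralizer ({t} : Set G) ⊓ centralizer ({(z : G)} : Set G) :=
    fun n h1 h2 => ⟨mem_centralizer_singleton_iff.2 h1, mem_centralizer_singleton_iff.2 h2⟩
  exact
    { tt := D.tt
      zz := D.zz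
      z1 := D.z1
      comm := D.comm
      F2 := D.pF
      Fz := D.leF
      Fn := D.norF
      Fc := D.selfF
      tF := htF
      Pt := D.Pt
      Pz := D.Pz
      Pn := fun n h1 h2 => D.norP n (D.cN n h1 h2)
      Pp := D.perf
      RP := D.RP
      hR := fun B hB h2 hn => D.core B hB h2 fun n hn' => hn n (hmem hn').1 (hmem hn').2
      Rn := by
        intro n hnt hnz
        rintro _ ⟨r, hr, rfl⟩
        refine ⟨K.normalizerMonoidHom ⟨n, o.emb.nor hnt⟩ r, map_R sh _ (o.emb.aut_z hnt hnz) hr, ?_⟩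
        exact nmh_apply _ r
      hmin := fun B hB hn => D.irr B hB fun n hn' => hn n (hmem hn').1 (hmem hn').2
      hna := D.nab
      hC := D.out
      hx := by
        obtain ⟨x, -, hxt, hxz⟩ := o.swap
        exact ⟨x, mul_inv_eq_iff_eq_mul.1 hxz, hxt⟩ }

section

variable {K : Subgroup G} {t q : G} {z u : K} {Q : Subgroup (centralizer ({z} : Set K))}
  {v : Fin 5 → centralizer ({z} : Set K)} {ρ : centralizer ({z} : Set K) →* SP}

/-- `P = C_K(z)` as a subgroup of `G` -/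
abbrev PP (z : K) : Subgroup G := (centralizer ({z} : Set K)).map K.subtype

/-- `R` as a subgroup of `G` -/
abbrev RR (Q : Subgroup (centralizer ({z} : Set K))) : Subgroup G :=
  (Q.map (centralizer ({z} : Set K)).subtype).map K.subtype

theorem mem_PP {x : G} : x ∈ PP z ↔ x ∈ K ∧ x * z = z * x := by
  rw [PP, Emb.mem_map]
  constructor
  · rintro ⟨hx, h⟩
    exact ⟨hx, congrArg Subtype.val (mem_cent.1 h)⟩
  · rintro ⟨hx, h⟩
    exact ⟨hx, mem_cent.2 (Subtype.ext h)⟩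

theorem coe_mem_PP (y : centralizer ({z} : Set K)) : ((y : K) : G) ∈ PP z := ⟨(y : K), y.2, rfl⟩

theorem coe_mem_RR {y : centralizer ({z} : Set K)} (hy : y ∈ Q) : ((y : K) : G) ∈ RR Q :=
  ⟨(y : K), ⟨y, hy, rfl⟩, rfl⟩

/-- elements of `N` inducing inner automorphisms -/
theorem mem_of_inner (o : Out K t q z (centralizer ({z} : Set K))) {n : G} (hnt : n * t = t * n)
    (hnz : n * z = z * n)
    (h : K.normalizerMonoidHom ⟨n, o.emb.nor hnt⟩ ∈ (MulAut.conj : K →* MulAut K).range) :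
    n ∈ PP z ∨ t * n ∈ PP z := by
  obtain ⟨k, hk⟩ := h
  have h2 := exists_of_conj (o.emb.nor hnt) hk.symm
  have hkt : (k : G) * t = t * k := o.emb.st.Kt k k.2
  have hkz : (k : G) * z = z * k → (k : G) ∈ PP z := fun e => mem_PP.2 ⟨k.2, e⟩
  have h3 : (k : G)⁻¹ * n ∈ zpowers q := by
    apply o.emb.st.cK
    · have h4 := o.emb.st.Kt (k : G)⁻¹ (K.inv_mem k.2)
      calc (k : G)⁻¹ * n * t = (k : G)⁻¹ * (n * t) := by group
        _ = ((k : G)⁻¹ * t) * n := by rw [hnt]; group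
        _ = t * ((k : G)⁻¹ * n) := by rw [h4]; group
    · exact h2
  rcases o.Q2 _ h3 with e | e
  · left
    have e1 : n = k := (inv_mul_eq_one.1 e).symm
    rw [e1] at hnz ⊢
    exact hkz hnz
  · right
    have e1 : n = k * t := by rw [← e]; group
    have e2 : t * n = k := by rw [e1, hkt, ← mul_assoc, o.emb.st.tt, one_mul]
    rw [e2]
    apply hkz
    rw [← e2, mul_assoc, hnz, ← mul_assoc, o.emb.comm, mul_assoc]

/-- the automorphism of `C_K(z)` induced by an element normalising it -/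
theorem exists_beta {g : G} (h1 : ∀ y ∈ PP z, g * y * g⁻¹ ∈ PP z) (h2 : ∀ y ∈ PP z, g⁻¹ * y * g ∈ PP z) :
    ∃ β : MulAut (centralizer ({z} : Set K)), ∀ y : centralizer ({z} : Set K),
      (((β y : centralizer ({z} : Set K)) : K) : G) = g * ((y : K) : G) * g⁻¹ := by
  have f1 : ∀ y : centralizer ({z} : Set K), g * ((y : K) : G) * g⁻¹ ∈ PP z := fun y => h1 _ (coe_mem_PP y)
  have f2 : ∀ y : centralizer ({z} : Set K), g⁻¹ * ((y : K) : G) * g ∈ PP z := fun y => h2 _ (coe_mem_PP y)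
  refine ⟨{ toFun := fun y => ⟨⟨g * ((y : K) : G) * g⁻¹, (Emb.mem_map.1 (f1 y)).1⟩, (Emb.mem_map.1 (f1 y)).2⟩
            invFun := fun y => ⟨⟨g⁻¹ * ((y : K) : G) * g, (Emb.mem_map.1 (f2 y)).1⟩, (Emb.mem_map.1 (f2 y)).2⟩
            left_inv := ?_
            right_inv := ?_
            map_mul' := ?_ }, fun y => rfl⟩
  · intro y
    apply Subtype.ext
    apply Subtype.ext
    show g⁻¹ * (g * ((y : K) : G) * g⁻¹) * g = ((y : K) : G)
    group
  · intro y
    apply Subtype.ext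
    apply Subtype.ext
    show g * (g⁻¹ * ((y : K) : G) * g) * g⁻¹ = ((y : K) : G)
    group
  · intro y w
    apply Subtype.ext
    apply Subtype.ext
    show g * (((y : K) : G) * ((w : K) : G)) * g⁻¹ = (g * ((y : K) : G) * g⁻¹) * (g * ((w : K) : G) * g⁻¹)
    group

/-- `g` acts on the `v i` as the signed permutation `(σ, s)` -/
def Act (v : Fin 5 → centralizer ({z} : Set K)) (g : G) (σ : Equiv.Perm (Fin 5)) (s : Fin 5 → ZMod 2) : Prop :=
  ∀ i, g * ((v i : K) : G) * g⁻¹ = (((zp (zc z) (s i) * v (σ i) : centralizer ({z} : Set K)) : K) : G)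

theorem exists_act_G [Finite G] (D : Dat z u Q v ρ) {g : G} (h1 : ∀ y ∈ PP z, g * y * g⁻¹ ∈ PP z)
    (h2 : ∀ y ∈ PP z, g⁻¹ * y * g ∈ PP z) : ∃ σ s, Act v g σ s := by
  obtain ⟨β, hβ⟩ := exists_beta h1 h2
  obtain ⟨σ, s, h⟩ := exists_act_C D.M β
  refine ⟨σ, s, fun i => ?_⟩
  rw [← hβ, h]

/-- even elements act on `R` like elements of `P` -/
theorem exists_of_even [Finite G] (D : Dat z u Q v ρ) {g : G} (h1 : ∀ y ∈ PP z, g * y * g⁻¹ ∈ PP z)
    (h2 : ∀ y ∈ PP z, g⁻¹ * y * g ∈ PP z) {σ : Equiv.Perm (Fin 5)} {s : Fin 5 → ZMod 2} (h : Act v g σ s)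
    (hσ : Equiv.Perm.sign σ = 1) : ∃ c ∈ PP z, ∀ r ∈ RR Q, g * r * g⁻¹ = c * r * c⁻¹ := by
  obtain ⟨β, hβ⟩ := exists_beta h1 h2
  obtain ⟨c, hc⟩ := exists_conj_of_even D.M β σ s (fun i => by
    apply Subtype.ext
    apply Subtype.ext
    rw [hβ]; exact h i) hσ
  refine ⟨((c : K) : G), coe_mem_PP c, ?_⟩
  rintro _ ⟨_, ⟨r, hr, rfl⟩, rfl⟩
  show g * ((r : K) : G) * g⁻¹ = _
  rw [← hβ, hc r hr]
  rfl

/-- even elements of `N` -/
theorem mem_of_even [Finite G] (D : Dat z u Q v ρ) (o : Out K t q z (centralizer ({z} : Set K))) {n : G}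
    (hnt : n * t = t * n) (hnz : n * z = z * n) {σ : Equiv.Perm (Fin 5)} {s : Fin 5 → ZMod 2}
    (h : Act v n σ s) (hσ : Equiv.Perm.sign σ = 1) : n ∈ PP z ∨ t * n ∈ PP z := by
  apply mem_of_inner o hnt hnz
  obtain ⟨k, hk⟩ := D.inner_of_even (K.normalizerMonoidHom ⟨n, o.emb.nor hnt⟩) (o.emb.aut_z hnt hnz) σ s
    (fun i => by
      apply Subtype.ext
      rw [nmh_apply]
      exact h i) hσ
  exact ⟨k, hk.symm⟩

theorem act_mul (D : Dat z u Q v ρ) {g g' : G} {σ τ : Equiv.Perm (Fin 5)} {s r : Fin 5 → ZMod 2}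
    (hg : Act v g σ s) (hgz : g * z = z * g) (hg' : Act v g' τ r) :
    Act v (g * g') (σ * τ) (fun i => r i + s (τ i)) := by
  intro i
  have hzp : ∀ a : ZMod 2, g * (((zp (zc z) a : centralizer ({z} : Set K)) : K) : G) * g⁻¹ =
      (((zp (zc z) a : centralizer ({z} : Set K)) : K) : G) := by
    intro a
    rcases zmod2_cases a with h | h
    · rw [h, zp_zero]
      show g * (1 : G) * g⁻¹ = 1
      group
    · rw [h, zp_one]
      show g * (z : G) * g⁻¹ = z
      rw [hgz]; group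
  calc g * g' * ((v i : K) : G) * (g * g')⁻¹ = g * (g' * ((v i : K) : G) * g'⁻¹) * g⁻¹ := by group
    _ = g * ((((zp (zc z) (r i) : centralizer ({z} : Set K)) : K) : G) * ((v (τ i) : K) : G)) * g⁻¹ := by
        rw [hg' i]; rfl
    _ = (g * (((zp (zc z) (r i) : centralizer ({z} : Set K)) : K) : G) * g⁻¹) *
          (g * ((v (τ i) : K) : G) * g⁻¹) := by group
    _ = (((zp (zc z) (r i) * (zp (zc z) (s (τ i)) * v (σ (τ i))) : centralizer ({z} : Set K)) : K) : G) := by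
        rw [hzp, hg (τ i)]; rfl
    _ = _ := by rw [← mul_assoc, ← zp_add (zc z) D.M.z_sq]; rfl

/-- elements of `N` centralising `R` -/
theorem cent_RR [Finite G] (D : Dat z u Q v ρ) (o : Out K t q z (centralizer ({z} : Set K))) {n : G}
    (hnt : n * t = t * n) (hnz : n * z = z * n) (h : ∀ r ∈ RR Q, n * r = r * n) :
    n = 1 ∨ n = z ∨ n = t ∨ n = t * z := by
  have hact : Act v n 1 (fun _ => 0) := by
    intro i
    rw [h _ (coe_mem_RR (D.M.v_mem i)), mul_inv_cancel_right, zp_zero, one_mul]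
    rfl
  have key : ∀ m : G, m ∈ PP z → (∀ r ∈ RR Q, m * r = r * m) → m = 1 ∨ m = z := by
    intro m hm hr
    obtain ⟨hmK, hmC⟩ := Emb.mem_map.1 hm
    rcases Cfsg.Agent.KFacts.QMinus.cent_Q D.M (c := ⟨⟨m, hmK⟩, hmC⟩) (fun i => by
      apply Subtype.ext
      apply Subtype.ext
      exact hr _ (coe_mem_RR (D.M.v_mem i))) with e | e
    · left; exact congrArg (fun y : centralizer ({z} : Set K) => ((y : K) : G)) e
    · right; exact congrArg (fun y : centralizer ({z} : Set K) => ((y : K) : G)) e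
  have hRt : ∀ r ∈ RR Q, t * r = r * t := by
    rintro _ ⟨r, -, rfl⟩
    exact (o.emb.st.Kt r r.2).symm
  rcases mem_of_even D o hnt hnz hact (by simp) with h1 | h1
  · rcases key n h1 h with h2 | h2
    · exact Or.inl h2
    · exact Or.inr (Or.inl h2)
  · right; right
    rcases key _ h1 (fun r hr => by
      rw [mul_assoc, h r hr, ← mul_assoc, hRt r hr, mul_assoc]) with h2 | h2
    · left
      calc n = t * (t * n) := by rw [← mul_assoc, o.emb.st.tt, one_mul]
        _ = t := by rw [h2, mul_one]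
    · right
      calc n = t * (t * n) := by rw [← mul_assoc, o.emb.st.tt, one_mul]
        _ = t * z := by rw [h2]

/-- commutators of `N` lie in `P` -/
theorem comm_mem [Finite G] (D : Dat z u Q v ρ) (o : Out K t q z (centralizer ({z} : Set K))) {a b : G}
    (hat : a * t = t * a) (haz : a * z = z * a) (hbt : b * t = t * b) (hbz : b * z = z * b) :
    a * b * a⁻¹ * b⁻¹ ∈ PP z := by
  have hinv : ∀ {n y : G}, n * y = y * n → n⁻¹ * y = y * n⁻¹ := by
    intro n y h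
    rw [inv_mul_eq_iff_eq_mul, ← mul_assoc, h]; group
  have hmul : ∀ {m n y : G}, m * y = y * m → n * y = y * n → m * n * y = y * (m * n) := by
    intro m n y h1 h2
    rw [mul_assoc, h2, ← mul_assoc, h1, mul_assoc]
  -- `[e, n]` for `e ∈ P ∪ tP`
  have key : ∀ e n : G, e * t = t * e → e * z = z * e → n * t = t * n → n * z = z * n →
      (e ∈ PP z ∨ t * e ∈ PP z) → e * n * e⁻¹ * n⁻¹ ∈ PP z := by
    intro e n het hez hnt hnz he
    have h1 : ∀ p ∈ PP z, p * n * p⁻¹ * n⁻¹ ∈ PP z := by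
      intro p hp
      have e1 : p * n * p⁻¹ * n⁻¹ = p * (n * p⁻¹ * n⁻¹) := by group
      rw [e1]
      exact (PP z).mul_mem hp (o.emb.conj_P hnt hnz ((PP z).inv_mem hp))
    rcases he with h2 | h2
    · exact h1 e h2
    · have h3 := h1 _ h2
      have e2 : t * e * n * (t * e)⁻¹ * n⁻¹ = e * n * e⁻¹ * n⁻¹ := by
        calc t * e * n * (t * e)⁻¹ * n⁻¹ = (t * e) * n * e⁻¹ * (t⁻¹ * n⁻¹) := by group
          _ = (e * t) * n * e⁻¹ * (n⁻¹ * t⁻¹) := by
              rw [het]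
              congr 1
              rw [← mul_inv_rev, ← mul_inv_rev, hnt]
          _ = e * (t * (n * e⁻¹ * n⁻¹)) * t⁻¹ := by group
          _ = e * ((n * e⁻¹ * n⁻¹) * t) * t⁻¹ := by
              rw [hmul (hmul hnt (hinv het)) (hinv hnt)]
          _ = _ := by group
      rw [← e2]; exact h3
  rcases Cfsg.Agent.KFacts.J2.SheetX.index_le D with hi | hi
  · apply key a b hat haz hbt hbz
    apply mem_of_inner o hat haz
    rw [index_eq_one] at hi
    rw [hi]; exact mem_top _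
  · by_cases ha : a ∈ PP z ∨ t * a ∈ PP z
    · exact key a b hat haz hbt hbz ha
    · -- `b a⁻¹` or `b` is even
      by_cases hb : b ∈ PP z ∨ t * b ∈ PP z
      · have h1 := key b a hbt hbz hat haz hb
        have h2 := (PP z).inv_mem h1
        have e : (b * a * b⁻¹ * a⁻¹)⁻¹ = a * b * a⁻¹ * b⁻¹ := by group
        rwa [e] at h2
      · have hct : b * a⁻¹ * t = t * (b * a⁻¹) := hmul hbt (hinv hat)
        have hcz : b * a⁻¹ * z = z * (b * a⁻¹) := hmul hbz (hinv haz)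
        have hc : b * a⁻¹ ∈ PP z ∨ t * (b * a⁻¹) ∈ PP z := by
          apply mem_of_inner o hct hcz
          have h1 : K.normalizerMonoidHom ⟨b * a⁻¹, o.emb.nor hct⟩ =
              K.normalizerMonoidHom ⟨b, o.emb.nor hbt⟩ * (K.normalizerMonoidHom ⟨a, o.emb.nor hat⟩)⁻¹ := by
            rw [← map_inv, ← map_mul]; rfl
          rw [h1, mul_mem_iff_of_index_two hi]
          constructor
          · intro h2
            exact absurd (mem_of_inner o hbt hbz h2) hb
          · intro h2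
            exact absurd (mem_of_inner o hat haz (inv_mem_iff.1 h2)) ha
        have h2 := (PP z).inv_mem (key _ a hct hcz hat haz hc)
        have e : (b * a⁻¹ * a * (b * a⁻¹)⁻¹ * a⁻¹)⁻¹ = a * b * a⁻¹ * b⁻¹ := by group
        rwa [e] at h2

/-- **`⟨t, z⟩` normal in `C_G(z)` is impossible** -/
theorem notMem [Finite G] (D : Dat z u Q v ρ) (o : Out K t q z (centralizer ({z} : Set K))) {F : Subgroup G}
    (X : CaseX.XHyp t (z : G) (PP z) (RR Q) F)
    (hnor : ∀ g : G, g * z = z * g → g * t * g⁻¹ = t ∨ g * t * g⁻¹ = t * z) : False := by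
  have hNN : ∀ a, a * t = t * a → a * z = z * a → ∀ b, b * t = t * b → b * z = z * b →
      a * b * a⁻¹ * b⁻¹ ∈ PP z := fun a h1 h2 b h3 h4 => comm_mem D o h1 h2 h3 h4
  have hzP : (z : G) ∈ PP z := mem_PP.2 ⟨z.2, rfl⟩
  obtain ⟨x, -, hxt, hxz0⟩ := o.swap
  have hxz : x * z = z * x := mul_inv_eq_iff_eq_mul.1 hxz0
  have hxP : ∀ p ∈ PP z, x * p * x⁻¹ ∈ PP z := fun p hp => (o.emb.conj_P_swap hxt hxz0).1 hp
  have hxP' : ∀ p ∈ PP z, x⁻¹ * p * x ∈ PP z := by
    intro p hp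
    apply (o.emb.conj_P_swap hxt hxz0).2
    have e : x * (x⁻¹ * p * x) * x⁻¹ = p := by group
    rw [e]; exact hp
  by_cases hin : ∀ n, n * t = t * n → n * z = z * n → n ∈ PP z ∨ t * n ∈ PP z
  · exact X.notMem_commutator hnor hNN hxz hxt (X.hxn_of_inner hxt hzP hxP hin) o.com
  · push Not at hin
    obtain ⟨s, hst, hsz, hs1, hs2⟩ := hin
    have hsP : ∀ p ∈ PP z, s * p * s⁻¹ ∈ PP z := fun p hp => o.emb.conj_P hst hsz hp
    have hst' : s⁻¹ * t = t * s⁻¹ := by rw [inv_mul_eq_iff_eq_mul, ← mul_assoc, hst]; group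
    have hsz' : s⁻¹ * z = z * s⁻¹ := by rw [inv_mul_eq_iff_eq_mul, ← mul_assoc, hsz]; group
    have hsP' : ∀ p ∈ PP z, s⁻¹ * p * s ∈ PP z := by
      intro p hp
      have := o.emb.conj_P hst' hsz' hp
      rwa [inv_inv] at this
    obtain ⟨σ, a, hσ⟩ := exists_act_G D hsP hsP'
    have hσ1 : Equiv.Perm.sign σ = -1 := by
      refine (Int.units_eq_one_or _).resolve_left fun h1 => ?_
      rcases mem_of_even D o hst hsz hσ h1 with h2 | h2
      · exact hs1 h2
      · exact hs2 h2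
    -- an even element `y` with `t ^ y = tz`
    obtain ⟨y, hyz, hyt, hyP, hyP', τ, b, hτ, hτ1⟩ : ∃ y : G, y * z = z * y ∧ y * t * y⁻¹ = t * z ∧
        (∀ p ∈ PP z, y * p * y⁻¹ ∈ PP z) ∧ (∀ p ∈ PP z, y⁻¹ * p * y ∈ PP z) ∧
        ∃ (τ : Equiv.Perm (Fin 5)) (b : Fin 5 → ZMod 2), Act v y τ b ∧ Equiv.Perm.sign τ = 1 := by
      obtain ⟨τ, b, hτ⟩ := exists_act_G D hxP hxP'
      rcases Int.units_eq_one_or (Equiv.Perm.sign τ) with h1 | h1
      · exact ⟨x, hxz, hxt, hxP, hxP', τ, b, hτ, h1⟩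
      · refine ⟨x * s, ?_, ?_, ?_, ?_, τ * σ, _, act_mul D hτ hxz hσ, ?_⟩
        · rw [mul_assoc, hsz, ← mul_assoc, hxz, mul_assoc]
        · calc x * s * t * (x * s)⁻¹ = x * (s * t * s⁻¹) * x⁻¹ := by group
            _ = t * z := by rw [hst, mul_inv_cancel_right, hxt]
        · intro p hp
          have e : x * s * p * (x * s)⁻¹ = x * (s * p * s⁻¹) * x⁻¹ := by group
          rw [e]; exact hxP _ (hsP _ hp)
        · intro p hp
          have e : (x * s)⁻¹ * p * (x * s) = s⁻¹ * (x⁻¹ * p * x) * s := by group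
          rw [e]; exact hsP' _ (hxP' _ hp)
        · rw [Equiv.Perm.sign_mul, h1, hσ1]; decide
    obtain ⟨c, hc, hcr⟩ := exists_of_even D hyP hyP' hτ hτ1
    obtain ⟨hcK, hcz⟩ := mem_PP.1 hc
    have hct : c * t = t * c := o.emb.st.Kt c hcK
    have hct' : c⁻¹ * t = t * c⁻¹ := by rw [inv_mul_eq_iff_eq_mul, ← mul_assoc, hct]; group
    have hcz' : c⁻¹ * z = z * c⁻¹ := by rw [inv_mul_eq_iff_eq_mul, ← mul_assoc, hcz]; group
    have h1z : c⁻¹ * y * z = z * (c⁻¹ * y) := by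
      rw [mul_assoc, hyz, ← mul_assoc, hcz', mul_assoc]
    have h1t : c⁻¹ * y * t * (c⁻¹ * y)⁻¹ = t * z := by
      calc c⁻¹ * y * t * (c⁻¹ * y)⁻¹ = c⁻¹ * (y * t * y⁻¹) * c := by group
        _ = (c⁻¹ * t) * z * c := by rw [hyt]; group
        _ = t * (c⁻¹ * z) * c := by rw [hct']; group
        _ = t * z := by rw [hcz']; group
    have h1R : ∀ r ∈ RR Q, c⁻¹ * y * r = r * (c⁻¹ * y) := by
      intro r hr
      rw [← mul_inv_eq_iff_eq_mul]
      calc c⁻¹ * y * r * (c⁻¹ * y)⁻¹ = c⁻¹ * (y * r * y⁻¹) * c := by group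
        _ = r := by rw [hcr r hr]; group
    exact X.notMem_commutator hnor hNN h1z h1t (X.hxn_of_cent h1z h1t hzP h1R
      (fun n h1 h2 h3 => cent_RR D o h1 h2 h3)) o.com

end

end Cfsg.Agent.OddHalf.D8.JTwo.Small
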